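import Mathlib
import Cfsg.Agent.Lib.Helper67.LSF.Defs

set_option autoImplicit false

/-! # LSF [FIXLET] (S5286) -/

namespace Cfsg.Agent.Lib.Helper96.LSF

open Cfsg Cfsg.Agent.Lib.Helper67.LSF

universe u

/-- [FIXLET] -/
theorem pkgFixLet : PkgFixLet.{u} := by
  intro X π L hL h ℓ hℓ
  classical
  have h1 : FreeGroup.freeGroupCongr π (FreeGroup.mk L) =
      FreeGroup.mk (L.map fun ℓ => (π ℓ.1, ℓ.2)) := by
    simp [FreeGroup.freeGroupCongr]
  rw [h1] at h
  have hred : FreeGroup.IsReduced (L.map fun ℓ : X × Bool => (π ℓ.1, ℓ.2)) := by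
    unfold FreeGroup.IsReduced at hL ⊢
    rw [List.isChain_map]
    refine hL.imp ?_
    intro a b hab h'
    exact hab (π.injective h')
  have h2 : (L.map fun ℓ : X × Bool => (π ℓ.1, ℓ.2)) = L := by
    have h3 := congrArg FreeGroup.toWord h
    rw [FreeGroup.toWord_mk, FreeGroup.toWord_mk] at h3
    rwa [FreeGroup.IsReduced.reduce_eq hred, FreeGroup.IsReduced.reduce_eq hL] at h3
  have h4 : (L.map fun ℓ : X × Bool => (π ℓ.1, ℓ.2)) = L.map id := by rw [List.map_id]; exact h2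
  have h5 := (List.map_inj_left.mp h4) ℓ hℓ
  exact congrArg Prod.fst h5

end Cfsg.Agent.Lib.Helper96.LSF
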