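import Mathlib
import Cfsg.Agent.Lib.Helper67.LSF.Defs

set_option autoImplicit false

/-! # LSF [HOM] (S5286) -/

namespace Cfsg.Agent.Lib.Helper96.LSF

open Cfsg Cfsg.Agent.Lib.Helper67.LSF

universe u

theorem lam_injective {Ω : Type u} [Group Ω] (S : Subgroup Ω) : Function.Injective (lam S) := by
  intro a b h
  have h1 := congrArg (fun f : Equiv.Perm S => f 1) h
  simpa [lam_apply] using h1

/-- [HOM] -/
theorem pkgHom : PkgHom.{u} := by
  intro Ω _ S q P hP h
  classical
  choose f hf using h
  have hmul : ∀ x y : P, f (x * y) = f x * f y := by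
    intro x y
    apply lam_injective S
    rw [← hf (x * y), map_mul, ← hf x, ← hf y]
    have e : (⟨(x * y : P), hP (x * y).2⟩ : S) = ⟨x, hP x.2⟩ * ⟨y, hP y.2⟩ := rfl
    rw [e, map_mul]
    group
  have hone : f 1 = 1 := by
    have h1 := hmul 1 1
    rw [one_mul] at h1
    have h2 : f 1 * f 1 = f 1 * 1 := by rw [mul_one]; exact h1.symm
    exact mul_left_cancel h2
  let ψ : P →* Ω :=
    { toFun := fun x => (f x : Ω)
      map_one' := by rw [hone]; rfl
      map_mul' := fun x y => by rw [hmul]; rfl }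
  refine ⟨ψ, fun x => (f x).2, fun x => ?_⟩
  exact (hf x).symm

end Cfsg.Agent.Lib.Helper96.LSF
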